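import Cfsg.Agent.H102.SpCent

/-!
# Sums of class functions over the elements of prime order `r`, `r ^ 2 ∤ |G|`
-/

set_option autoImplicit false

namespace Cfsg.Agent.H102.E7V

open Subgroup

/-- the sum of a class function over the elements of order `r` -/
theorem sum_order {G : Type*} [Group G] [Fintype G] [DecidableEq G] {r : ℕ} (hr : r.Prime)
    (hsq : ¬ r ^ 2 ∣ Nat.card G) {x : G} (hx : orderOf x = r) (f : G → ℂ) (hf : ∀ c g, f (c * g * c⁻¹) = f g)
    [Fintype (zpowers x)] :
    ∑ g ∈ Finset.univ.filter (fun g : G => orderOf g = r), f g =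
      Nat.card (Sylow r G) * (∑ y : zpowers x, f y - f 1) := by
  classical
  have : Fact r.Prime := ⟨hr⟩
  have := Fintype.ofFinite (Sylow r G)
  have hdvd : r ∣ Nat.card G := hx ▸ orderOf_dvd_natCard x
  have hfac : (Nat.card G).factorization r = 1 := by
    have h1 : 0 < (Nat.card G).factorization r := hr.factorization_pos_of_dvd Nat.card_pos.ne' hdvd
    have h2 : ¬ 2 ≤ (Nat.card G).factorization r := by
      intro h
      exact hsq ((hr.pow_dvd_iff_le_factorization Nat.card_pos.ne').2 h)
    omega
  have hcard : ∀ P : Sylow r G, Nat.card (P : Subgroup G) = r := by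
    intro P
    rw [P.card_eq_multiplicity, hfac, pow_one]
  have hord : ∀ (P : Sylow r G) (g : G), g ∈ (P : Subgroup G) → g ≠ 1 → orderOf g = r := by
    intro P g hg h1
    have h2 : orderOf g ∣ r := by
      rw [← hcard P]
      exact Subgroup.orderOf_dvd_natCard _ hg
    exact ((Nat.dvd_prime hr).1 h2).resolve_left (fun h => h1 (orderOf_eq_one_iff.1 h))
  let P : Sylow r G := Sylow.ofCard (Subgroup.zpowers x) (by rw [Nat.card_zpowers, hx, hfac, pow_one])
  have hP : (P : Subgroup G) = zpowers x := rfl
  -- the sum over a Sylow subgroup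
  have hsum : ∀ Q : Sylow r G, ∑ g ∈ Finset.univ.filter (fun g : G => g ∈ (Q : Subgroup G) ∧ g ≠ 1), f g =
      ∑ y : zpowers x, f y - f 1 := by
    intro Q
    obtain ⟨c, hc⟩ := MulAction.exists_smul_eq G P Q
    have h1 : ∑ g ∈ Finset.univ.filter (fun g : G => g ∈ (Q : Subgroup G) ∧ g ≠ 1), f g =
        ∑ g ∈ Finset.univ.filter (fun g : G => g ∈ (P : Subgroup G) ∧ g ≠ 1), f g := by
      symm
      refine Finset.sum_bij (fun g _ => c * g * c⁻¹) ?_ ?_ ?_ ?_
      · intro g hg
        rw [Finset.mem_filter] at hg ⊢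
        refine ⟨Finset.mem_univ _, ?_, ?_⟩
        · rw [← hc, Sylow.coe_subgroup_smul]
          exact Subgroup.smul_mem_pointwise_smul g (MulAut.conj c) (P : Subgroup G) hg.2.1
        · intro h
          apply hg.2.2
          have : g = c⁻¹ * (c * g * c⁻¹) * c := by group
          rw [this, h]
          group
      · intro a _ b _ h
        simpa using h
      · intro g hg
        rw [Finset.mem_filter] at hg
        have h2 : g ∈ (Q : Subgroup G) := hg.2.1
        rw [← hc, Sylow.coe_subgroup_smul] at h2
        obtain ⟨z, hz, hz'⟩ := Subgroup.mem_smul_pointwise_iff_exists _ _ _ |>.1 h2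
        have hz2 : c * z * c⁻¹ = g := by
          rw [← hz']
          simp [MulAut.smul_def, MulAut.conj_apply]
        refine ⟨z, ?_, hz2⟩
        rw [Finset.mem_filter]
        refine ⟨Finset.mem_univ _, hz, ?_⟩
        rintro rfl
        apply hg.2.2
        rw [← hz2]
        group
      · intro g _
        exact (hf c g).symm
    rw [h1]
    have h2 : ∑ g ∈ Finset.univ.filter (fun g : G => g ∈ (P : Subgroup G)), f g = ∑ y : zpowers x, f y := by
      rw [Finset.sum_filter, ← Finset.sum_filter]
      refine (Finset.sum_subtype _ (p := fun g => g ∈ zpowers x) ?_ f)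
      intro g
      rw [Finset.mem_filter]
      exact ⟨fun h => h.2, fun h => ⟨Finset.mem_univ _, h⟩⟩
    rw [← h2]
    have h3 : (Finset.univ.filter (fun g : G => g ∈ (P : Subgroup G) ∧ g ≠ 1)) =
        (Finset.univ.filter (fun g : G => g ∈ (P : Subgroup G))).erase 1 := by
      ext g
      rw [Finset.mem_erase, Finset.mem_filter, Finset.mem_filter]
      tauto
    rw [h3, ← Finset.add_sum_erase (Finset.univ.filter (fun g : G => g ∈ (P : Subgroup G))) f
      (Finset.mem_filter.2 ⟨Finset.mem_univ _, one_mem _⟩)]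
    ring
  have h1 : ∑ Q : Sylow r G, ∑ g ∈ Finset.univ.filter (fun g : G => g ∈ (Q : Subgroup G) ∧ g ≠ 1), f g =
      Nat.card (Sylow r G) * (∑ y : zpowers x, f y - f 1) := by
    rw [Finset.sum_congr rfl fun Q _ => hsum Q, Finset.sum_const, Finset.card_univ, nsmul_eq_mul,
      Nat.card_eq_fintype_card]
  rw [← h1, Finset.sum_comm' (s' := fun g => Finset.univ.filter (fun Q : Sylow r G => g ∈ (Q : Subgroup G)))
    (t' := Finset.univ.filter (fun g : G => orderOf g = r))]
  · refine Finset.sum_congr rfl fun g hg => ?_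
    rw [Finset.sum_const]
    have hg' : orderOf g = r := (Finset.mem_filter.1 hg).2
    have h2 : (Finset.univ.filter (fun Q : Sylow r G => g ∈ (Q : Subgroup G))).card = 1 := by
      rw [Finset.card_eq_one]
      let Q : Sylow r G := Sylow.ofCard (Subgroup.zpowers g) (by rw [Nat.card_zpowers, hg', hfac, pow_one])
      refine ⟨Q, ?_⟩
      ext R
      rw [Finset.mem_filter, Finset.mem_singleton]
      constructor
      · rintro ⟨-, h⟩
        symm
        apply Sylow.ext
        apply Subgroup.eq_of_le_of_card_ge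
        · show zpowers g ≤ _
          rw [zpowers_le]
          exact h
        · rw [hcard R, hcard Q]
      · rintro rfl
        exact ⟨Finset.mem_univ _, mem_zpowers g⟩
    rw [h2, one_smul]
  · intro Q g
    rw [Finset.mem_filter, Finset.mem_filter, Finset.mem_filter]
    constructor
    · rintro ⟨-, -, h, h'⟩
      exact ⟨⟨Finset.mem_univ _, h⟩, Finset.mem_univ _, hord Q g h h'⟩
    · rintro ⟨⟨-, h⟩, -, h'⟩
      refine ⟨Finset.mem_univ _, Finset.mem_univ _, h, ?_⟩
      rintro rfl
      rw [orderOf_one] at h'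
      exact hr.one_lt.ne h'

/-- the Sylow count -/
theorem count {G : Type*} [Group G] [Finite G] {r : ℕ} (hr : r.Prime) (hsq : ¬ r ^ 2 ∣ Nat.card G) {x : G}
    (hx : orderOf x = r) : ∃ e, e ∣ r - 1 ∧ Nat.card (Sylow r G) % r = 1 % r ∧
      Nat.card (normalizer (zpowers x : Set G)) = Nat.card (centralizer ({x} : Set G)) * e ∧
      Nat.card G = Nat.card (Sylow r G) * (Nat.card (centralizer ({x} : Set G)) * e) := by
  have : Fact r.Prime := ⟨hr⟩
  have hdvd : r ∣ Nat.card G := hx ▸ orderOf_dvd_natCard _
  have hfac : (Nat.card G).factorization r = 1 := by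
    have h1 : 0 < (Nat.card G).factorization r := hr.factorization_pos_of_dvd Nat.card_pos.ne' hdvd
    have h2 : ¬ 2 ≤ (Nat.card G).factorization r := by
      intro h
      exact hsq ((hr.pow_dvd_iff_le_factorization Nat.card_pos.ne').2 h)
    omega
  let P : Sylow r G := Sylow.ofCard (Subgroup.zpowers x) (by rw [Nat.card_zpowers, hx, hfac, pow_one])
  have hmod := card_sylow_modEq_one r G
  set Z := Subgroup.zpowers x with hZ
  have hcardP : Nat.card (Sylow r G) = Nat.card (G ⧸ Subgroup.normalizer (Z : Set G)) :=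
    P.card_eq_card_quotient_normalizer
  have hker := Subgroup.normalizerMonoidHom_ker Z
  have hcardker : Nat.card Z.normalizerMonoidHom.ker = Nat.card (Subgroup.centralizer ({x} : Set G)) := by
    have hcz : Subgroup.centralizer (Z : Set G) = Subgroup.centralizer ({x} : Set G) := by
      rw [hZ, Subgroup.zpowers_eq_closure, Subgroup.centralizer_closure]
    rw [hker, hcz]
    have hle : Subgroup.centralizer ({x} : Set G) ≤ Subgroup.normalizer (Z : Set G) := by
      rw [← hcz]
      exact Subgroup.centralizer_le_normalizer _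
    exact Nat.card_congr (Subgroup.subgroupOfEquivOfLe hle).toEquiv
  have hmul := Z.normalizerMonoidHom.ker.card_mul_index
  rw [hcardker, Subgroup.index_ker] at hmul
  have hdvde : Nat.card Z.normalizerMonoidHom.range ∣ r - 1 := by
    have h1 := Subgroup.card_subgroup_dvd_card Z.normalizerMonoidHom.range
    rw [IsCyclic.card_mulAut, hZ, Nat.card_zpowers, hx, Nat.totient_prime hr] at h1
    exact h1
  refine ⟨_, hdvde, hmod, hmul.symm, ?_⟩
  rw [hmul, hcardP]
  exact Subgroup.card_eq_card_quotient_mul_card_subgroup (Subgroup.normalizer (Z : Set G))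

end Cfsg.Agent.H102.E7V
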