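import Cfsg.Agent.H102.E7V.Pos
import Cfsg.Agent.CharDeep.LinearChar

set_option autoImplicit false

namespace Cfsg.Agent.H102.E7V

open Cfsg IsLocalRing Module Cfsg.Agent.H657 Cfsg.Agent.H943.E7V Subgroup

universe u

/-- the Frobenius group of order 21 with the values 20 and 0 -/
theorem not_frob (hpos : Pos.{u}) {M : Ideal AlgInt} {V : ValuationSubring ℂ} (hM : IsPModular 2 M) (hV : Above M V)
    {K : Type u} [Group K] [Finite K] {P : Subgroup K} [P.Normal] (hP : Nat.card P = 7) (hPi : P.index = 3)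
    (h21 : ∀ g : K, orderOf g ≠ 21)
    (σ : Representation (ResidueField V) K (Fin 56 → ResidueField V)) (h1 : bc 2 σ 1 = 56)
    (h3 : ∀ g, orderOf g = 3 → bc 2 σ g = 20) (h7 : ∀ g, orderOf g = 7 → bc 2 σ g = 0) : False := by
  classical
  have := Fintype.ofFinite K
  have hK : Nat.card K = 21 := by
    rw [← P.card_mul_index, hP, hPi]
  have hq : Nat.card (K ⧸ P) = 3 := by rw [← hPi]; rfl
  have h3p : Fact (Nat.Prime 3) := ⟨Nat.prime_three⟩
  have hcyc : IsCyclic (K ⧸ P) := isCyclic_of_prime_card hq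
  let _ : CommGroup (K ⧸ P) := hcyc.commGroup
  obtain ⟨a, ha⟩ : ∃ a : K ⧸ P, a ≠ 1 := by
    have : Nontrivial (K ⧸ P) := Finite.one_lt_card_iff_nontrivial.1 (by rw [hq]; norm_num)
    exact exists_ne 1
  obtain ⟨φ, hφ⟩ := CommGroup.exists_apply_ne_one_of_hasEnoughRootsOfUnity (K ⧸ P) ℂ ha
  let l : K →* ℂˣ := φ.comp (QuotientGroup.mk' P)
  have hlP : ∀ k ∈ P, l k = 1 := by
    intro k hk
    show φ (QuotientGroup.mk' P k) = 1
    have h : QuotientGroup.mk' P k = 1 := (QuotientGroup.eq_one_iff k).2 hk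
    rw [h, map_one]
  have hl1 : ((Units.coeHom ℂ).comp l) ≠ 1 := by
    intro h
    obtain ⟨k, rfl⟩ := QuotientGroup.mk'_surjective P a
    apply hφ
    apply Units.ext
    exact DFunLike.congr_fun h k
  have hsum : ∑ k : K, ((l k⁻¹ : ℂˣ) : ℂ) = 0 := by
    rw [← sum_hom_units_eq_zero ((Units.coeHom ℂ).comp l) hl1]
    exact Fintype.sum_equiv (Equiv.inv K) _ _ fun k => rfl
  obtain ⟨d, -, he⟩ := hpos hM hV σ (CharDeep.LinearChar.isIrrCharacter_of_hom l) (by
    intro g hg
    exfalso
    apply hg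
    intro h2
    have h4 := h2.trans (orderOf_dvd_natCard g)
    rw [hK] at h4
    norm_num at h4)
  have hbc : ∀ k : K, bc 2 σ k * ((l k⁻¹ : ℂˣ) : ℂ) = 20 * ((l k⁻¹ : ℂˣ) : ℂ) +
      ((-20) * (if k ∈ P then (1 : ℂ) else 0) + 56 * (if k = 1 then (1 : ℂ) else 0)) := by
    intro k
    by_cases hk1 : k = 1
    · subst hk1
      rw [h1, if_pos (one_mem _), if_pos rfl, inv_one, map_one]
      norm_num
    rw [if_neg hk1]
    have hd : orderOf k ∣ 21 := hK ▸ orderOf_dvd_natCard k
    have hne : orderOf k ≠ 1 := fun h => hk1 (orderOf_eq_one_iff.1 h)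
    have hcases : orderOf k = 3 ∨ orderOf k = 7 := by
      have h5 : orderOf k ∈ Nat.divisors 21 := Nat.mem_divisors.2 ⟨hd, by norm_num⟩
      have h6 : Nat.divisors 21 = {1, 3, 7, 21} := by decide +kernel
      rw [h6] at h5
      simp only [Finset.mem_insert, Finset.mem_singleton] at h5
      have := h21 k
      tauto
    by_cases hkP : k ∈ P
    · have h5 : orderOf k ∣ 7 := hP ▸ Subgroup.orderOf_dvd_natCard P hkP
      have h6 : orderOf k = 7 := by
        rcases hcases with h | h
        · rw [h] at h5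
          norm_num at h5
        · exact h
      rw [h7 k h6, if_pos hkP, hlP _ (inv_mem hkP)]
      norm_num
    · have h6 : orderOf k = 3 := by
        rcases hcases with h | h
        · exact h
        · exfalso
          apply hkP
          rw [← QuotientGroup.eq_one_iff, ← orderOf_eq_one_iff]
          have h8 : orderOf (k : K ⧸ P) ∣ 7 := h ▸ orderOf_map_dvd (QuotientGroup.mk' P) k
          have h9 : orderOf (k : K ⧸ P) ∣ 3 := hq ▸ orderOf_dvd_natCard _
          exact Nat.dvd_one.1 ((Nat.dvd_gcd h8 h9).trans (by norm_num))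
      rw [h3 k h6, if_neg hkP]
      norm_num
  rw [Finset.sum_congr rfl fun k _ => hbc k, Finset.sum_add_distrib, Finset.sum_add_distrib, ← Finset.mul_sum,
    ← Finset.mul_sum, ← Finset.mul_sum, hsum, Finset.sum_ite_eq' Finset.univ (1 : K), if_pos (Finset.mem_univ _),
    ← Finset.sum_filter, Finset.sum_const, nsmul_eq_mul, ← Nat.card_eq_fintype_card, hK] at he
  have h8 : (Finset.univ.filter (fun k : K => k ∈ P)).card = 7 := by
    rw [← hP, Nat.card_eq_fintype_card]
    exact (Fintype.card_subtype _).symm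
  rw [h8, map_one] at he
  norm_num at he
  have h9 : (d : ℝ) * 21 = -84 := by exact_mod_cast he
  have h10 : (0 : ℝ) ≤ d := Nat.cast_nonneg d
  linarith

end Cfsg.Agent.H102.E7V
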