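import Cfsg.Agent.H943.E7V.Iface
import Cfsg.Agent.H484.Pos

/-!
# S5770: the tool POS as a proposition
-/

set_option autoImplicit false

namespace Cfsg.Agent.H102.E7V

open Cfsg IsLocalRing Module Cfsg.Agent.H657 Cfsg.Agent.H943.E7V

universe u

/-- the tool POS (task 2445) -/
def Pos : Prop :=
  ∀ {p : ℕ} {M : Ideal AlgInt} {V : ValuationSubring ℂ} (_ : IsPModular p M) (_ : Above M V) {G : Type u} [Group G]
    [Fintype G] {n : ℕ} (σ : Representation (ResidueField V) G (Fin n → ResidueField V)) {χ : G → ℂ}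
    (_ : IsIrrCharacter G χ) (_ : ∀ g, ¬ IsPRegular p g → χ g = 0),
    ∃ d : ℕ, d ≤ n ∧ (d : ℂ) * Fintype.card G = χ 1 * ∑ g : G, bc p σ g * χ g⁻¹

/-- POS holds (helper484) -/
theorem pos_holds : Pos.{u} := fun hM hV _ _ _ _ σ _ hχ h0 => H484.Pos.pos hM hV σ hχ h0

end Cfsg.Agent.H102.E7V
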