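import Cfsg.Agent.H943.E7V.Iface
import Cfsg.Agent.H680.ExcSz
import Cfsg.Agent.S0157
import Cfsg.Agent.H355.SzOdd
import Cfsg.Agent.H102.SpCent
import Cfsg.Agent.H102.E7V.Pos

set_option autoImplicit false

namespace Cfsg.Agent.H102.E7V

open Cfsg IsLocalRing Module Cfsg.Agent.H657 Cfsg.Agent.H943.E7V MulAction
open Cfsg.Agent.LieExceptional Cfsg.Agent.LieExceptional.SuzukiSylow
open Cfsg.Agent.H98.SzBasic Cfsg.Agent.H98.SzPartition
open Cfsg.Agent.LieExceptional.SuzukiTori

universe u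

variable {F : Type u} [Field F] [Fintype F]

/-- the number of fixed points on the ovoid -/
noncomputable def fx (g : Cfsg.Sz F 1) : ℕ := Nat.card (fixedBy (Cfsg.suzukiOvoid F 1) g)

theorem cF (hF : Fintype.card F = 8) : Fintype.card F = 2 ^ (2 * 1 + 1) := by rw [hF]; norm_num

theorem card_sz8 (hF : Fintype.card F = 8) : Nat.card (Cfsg.Sz F 1) = 29120 := by
  rw [S0324.result le_rfl (cF hF)]
  norm_num

theorem fx_conj (g y : Cfsg.Sz F 1) : fx (y * g * y⁻¹) = fx g := by
  unfold fx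
  refine Nat.card_congr
    { toFun := fun p => ⟨y⁻¹ • (p : Cfsg.suzukiOvoid F 1), ?_⟩
      invFun := fun p => ⟨y • (p : Cfsg.suzukiOvoid F 1), ?_⟩
      left_inv := fun p => Subtype.ext (smul_inv_smul _ _)
      right_inv := fun p => Subtype.ext (inv_smul_smul _ _) }
  · have h := p.2
    rw [mem_fixedBy] at h ⊢
    rw [mul_smul, mul_smul] at h
    rw [eq_inv_smul_iff, h]
  · have h := p.2
    rw [mem_fixedBy] at h ⊢
    rw [mul_smul, mul_smul, inv_smul_smul, h]

/-- the elements of `Sz(8)` -/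
theorem cases_sz8 (hF : Fintype.card F = 8) (g : Cfsg.Sz F 1) :
    g = 1 ∨ (fx g = 0 ∧ (orderOf g = 5 ∨ orderOf g = 13)) ∨ (fx g = 2 ∧ orderOf g = 7) ∨
      (fx g = 1 ∧ 2 ∣ orderOf g) := by
  classical
  have hF' := cF hF
  have HH := SuzukiHyp.hyp (F := F) (m := 1) le_rfl hF'
  have hfin := finite_ovoid F 1
  rcases eq_or_ne g 1 with h1 | h1
  · exact Or.inl h1
  right
  rcases trichotomy le_rfl hF' h1 with h | ⟨y, k, hk, h⟩ | ⟨y, a, b, hab, h⟩
  · left
    refine ⟨h, ?_⟩
    have h2 := card_centralizer_free le_rfl hF' h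
    have h3 : orderOf g ∣ Nat.card (Subgroup.centralizer ({g} : Set (Cfsg.Sz F 1))) :=
      Subgroup.orderOf_dvd_natCard _ (by rw [Subgroup.mem_centralizer_singleton_iff])
    have h4 : orderOf g ≠ 1 := fun h => h1 (orderOf_eq_one_iff.1 h)
    rcases h2 with h2 | h2
    · rw [h2] at h3
      right
      exact (((Nat.dvd_prime (by norm_num : Nat.Prime 13)).1 (by simpa using h3)).resolve_left h4)
    · rw [Set.mem_singleton_iff.1 h2] at h3
      left
      exact (((Nat.dvd_prime (by norm_num : Nat.Prime 5)).1 (by simpa using h3)).resolve_left h4)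
  · right; left
    have ho : orderOf g = orderOf (H98.SzBasic.h hF' k) := by
      rw [← h]
      exact (orderOf_injective (MulAut.conj y).toMonoidHom (MulAut.conj y).injective g).symm
    have ho7 : orderOf g = 7 := by
      have h2 : orderOf (H98.SzBasic.h hF' k) ∣ 7 := by
        have h3 : orderOf (hHom (m := 1) hF' k) ∣ orderOf k := orderOf_map_dvd _ _
        have h4 : orderOf k ∣ 7 := by
          have := orderOf_dvd_natCard k
          rwa [Nat.card_units, Nat.card_eq_fintype_card, hF] at this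
        exact h3.trans h4
      rw [← ho] at h2
      exact ((Nat.dvd_prime (by norm_num : Nat.Prime 7)).1 h2).resolve_left
        (fun h => h1 (orderOf_eq_one_iff.1 h))
    refine ⟨?_, ho7⟩
    refine Cfsg.Agent.H355.SzOdd.card_fixedBy_eq_two HH h1 (by rw [ho7]; decide) ?_
    intro hf
    have h5 : fx (y * g * y⁻¹) = 0 := by rw [fx_conj]; exact hf
    rw [h] at h5
    have h6 : (H98.SzBasic.h hF' k) ∈ Hyp.free (Cfsg.Sz F 1) (Cfsg.suzukiOvoid F 1) := h5
    rw [Hyp.mem_free_iff] at h6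
    exact h6 (inf F 1) (h_smul_inf hF' k)
  · right; right
    have h2 : fx (y * g * y⁻¹) = 1 := by
      rw [h]
      unfold fx
      have h3 : fixedBy (Cfsg.suzukiOvoid F 1) (u hF' a b) = {inf F 1} := by
        ext p
        rw [mem_fixedBy, Set.mem_singleton_iff]
        constructor
        · exact fun hp => u_fix hF' hab hp
        · rintro rfl
          exact u_smul_inf hF' a b
      rw [h3]
      simp
    rw [fx_conj] at h2
    refine ⟨h2, ?_⟩
    by_contra ho
    have h3 : Odd (orderOf g) := by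
      rw [← Nat.not_even_iff_odd, even_iff_two_dvd]
      exact ho
    have h4 := Cfsg.Agent.H355.SzOdd.card_fixedBy_eq_two HH h1 h3 (by
      intro hf
      have h5 : fx g = 0 := hf
      omega)
    have h5 : fx g = 2 := h4
    omega

/-- the Steinberg character of `Sz(8)` -/
noncomputable def st (g : Cfsg.Sz F 1) : ℂ := (fx g : ℂ) - 1

theorem st_irr (hF : Fintype.card F = 8) : IsIrrCharacter (Cfsg.Sz F 1) st := by
  have hF' := cF hF
  have HH := SuzukiHyp.hyp (F := F) (m := 1) le_rfl hF'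
  have hfin := finite_ovoid F 1
  have hfG : Finite (Cfsg.Sz F 1) := inferInstance
  have h2 := HH.two
  have : IsPretransitive (Cfsg.Sz F 1) (Cfsg.suzukiOvoid F 1) := isPretransitive_of_is_two_pretransitive
  refine (S0157.result (Cfsg.suzukiOvoid F 1) ?_).2 h2
  rw [HH.card_set]
  norm_num

theorem fx_one (hF : Fintype.card F = 8) : fx (1 : Cfsg.Sz F 1) = 65 := by
  have HH := SuzukiHyp.hyp (F := F) (m := 1) le_rfl (cF hF)
  unfold fx
  rw [fixedBy_one_eq_univ, Nat.card_univ, HH.card_set]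
  norm_num

theorem fx_inv (g : Cfsg.Sz F 1) : fx g⁻¹ = fx g := by
  unfold fx
  rw [fixedBy_inv]

theorem sum_fx [Fintype (Cfsg.Sz F 1)] (hF : Fintype.card F = 8) : ∑ g : Cfsg.Sz F 1, ((fx g : ℤ) - 1) = 0 := by
  have hF' := cF hF
  have HH := SuzukiHyp.hyp (F := F) (m := 1) le_rfl hF'
  have hfin := finite_ovoid F 1
  have h2 := HH.two
  have hne : Nonempty (Cfsg.suzukiOvoid F 1) := ⟨inf F 1⟩
  have : IsPretransitive (Cfsg.Sz F 1) (Cfsg.suzukiOvoid F 1) := isPretransitive_of_is_two_pretransitive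
  have h := sum_fixedBy (G := Cfsg.Sz F 1) (X := Cfsg.suzukiOvoid F 1) this
  have h' : ∑ g : Cfsg.Sz F 1, (fx g : ℤ) = (Fintype.card (Cfsg.Sz F 1) : ℤ) := by
    rw [← Nat.card_eq_fintype_card, ← h]
    push_cast
    rfl
  rw [Finset.sum_sub_distrib, h', Finset.sum_const, Finset.card_univ, nsmul_eq_mul, mul_one, sub_self]

theorem card_free_eq [Fintype (Cfsg.Sz F 1)] (hF : Fintype.card F = 8) :
    ∑ g : Cfsg.Sz F 1, (if fx g = 0 then (1 : ℤ) else 0) = 12544 := by
  classical
  have hF' := cF hF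
  have HH := SuzukiHyp.hyp (F := F) (m := 1) le_rfl hF'
  have hfin := finite_ovoid F 1
  have h := HH.card_free
  have h1 : Nat.card (Hyp.free (Cfsg.Sz F 1) (Cfsg.suzukiOvoid F 1)) =
      (Finset.univ.filter (fun g : Cfsg.Sz F 1 => fx g = 0)).card := by
    have h2 : Nat.card (Hyp.free (Cfsg.Sz F 1) (Cfsg.suzukiOvoid F 1)) = Nat.card {g : Cfsg.Sz F 1 // fx g = 0} := rfl
    rw [h2, Nat.card_eq_fintype_card, Fintype.card_subtype]
  rw [h1] at h
  rw [Finset.sum_ite, Finset.sum_const, Finset.sum_const_zero, add_zero, nsmul_eq_mul, mul_one]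
  norm_num at h
  omega

theorem seven_const {V : ValuationSubring ℂ} {G : Type*} [Group G] [Finite G] (h49 : ¬ 7 ^ 2 ∣ Nat.card G)
    {σ : Representation (ResidueField V) G (Fin 56 → ResidueField V)} (H : Vals σ) :
    ∃ t : ℤ, (t = 14 ∨ t = 0 ∨ t = -7) ∧ ∀ g, orderOf g = 7 → bc 2 σ g = t := by
  by_cases h : ∃ g0 : G, orderOf g0 = 7
  · obtain ⟨g0, hg0⟩ := h
    obtain ⟨t, ht, ht'⟩ : ∃ t : ℤ, (t = 14 ∨ t = 0 ∨ t = -7) ∧ bc 2 σ g0 = t := by
      rcases H.seven g0 hg0 with h | h | h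
      · exact ⟨14, Or.inl rfl, by rw [h]; norm_num⟩
      · exact ⟨0, Or.inr (Or.inl rfl), by rw [h]; norm_num⟩
      · exact ⟨-7, Or.inr (Or.inr rfl), by rw [h]; norm_num⟩
    refine ⟨t, ht, fun g hg => ?_⟩
    obtain ⟨c, j, hj⟩ := SpCent.conj_of_orderOf (by norm_num : Nat.Prime 7) h49 hg hg0
    have hc : orderOf (c * g0 * c⁻¹) = 7 := by
      rw [← hg0]
      exact orderOf_injective (MulAut.conj c).toMonoidHom (MulAut.conj c).injective g0
    have hcop : Nat.Coprime j 7 := by
      rw [Nat.coprime_comm, Nat.Prime.coprime_iff_not_dvd (by norm_num)]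
      intro hd
      have h1 : g = 1 := by
        rw [hj]
        exact orderOf_dvd_iff_pow_eq_one.1 (by rw [hc]; exact hd)
      rw [h1, orderOf_one] at hg
      norm_num at hg
    rw [hj, H.seven_pow _ hc j hcop, bc_conj, ht']
  · exact ⟨0, Or.inr (Or.inl rfl), fun g hg => absurd ⟨g, hg⟩ h⟩

/-- `Sz(8)` in the model `Cfsg.Sz` -/
theorem not_sz (hpos : Pos.{u}) (hF : Fintype.card F = 8) : ¬ Adm (Cfsg.Sz F 1) := by
  classical
  rintro ⟨M, V, hM, hV, σ, H⟩
  have hfG : Finite (Cfsg.Sz F 1) := inferInstance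
  have := Fintype.ofFinite (Cfsg.Sz F 1)
  have hc := card_sz8 hF
  obtain ⟨d, hd, he⟩ := hpos hM hV σ (st_irr hF) (fun g hg => by
    unfold IsPRegular at hg
    rw [not_not] at hg
    rcases cases_sz8 hF g with h | ⟨-, h | h⟩ | ⟨-, h⟩ | ⟨h, -⟩
    · rw [h, orderOf_one] at hg
      norm_num at hg
    · rw [h] at hg
      norm_num at hg
    · rw [h] at hg
      norm_num at hg
    · rw [h] at hg
      norm_num at hg
    · unfold st
      rw [h]
      norm_num)
  obtain ⟨t, ht, hbt⟩ := seven_const (by rw [hc]; norm_num) H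
  -- the integral values
  let b : Cfsg.Sz F 1 → ℤ := fun g => if g = 1 then 56 else if orderOf g = 5 then 6 else if orderOf g = 13 then 4
    else if orderOf g = 7 then t else 0
  have hb : ∀ g, bc 2 σ g * st g⁻¹ = ((b g * ((fx g : ℤ) - 1) : ℤ) : ℂ) := by
    intro g
    have hst : (st g⁻¹ : ℂ) = (((fx g : ℤ) - 1 : ℤ) : ℂ) := by
      unfold st
      rw [fx_inv]
      push_cast
      ring
    rw [hst, Int.cast_mul]
    rcases cases_sz8 hF g with h | ⟨h0, h | h⟩ | ⟨h0, h⟩ | ⟨h0, -⟩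
    · have h1 : b g = 56 := if_pos h
      rw [h1, h, H.one]
      norm_num
    · have hne : g ≠ 1 := by
        rintro rfl
        rw [orderOf_one] at h
        norm_num at h
      have h1 : b g = 6 := by
        simp only [b, if_neg hne, if_pos h]
      rw [h1, H.five g h]
      norm_num
    · have hne : g ≠ 1 := by
        rintro rfl
        rw [orderOf_one] at h
        norm_num at h
      have h1 : b g = 4 := by
        simp only [b, if_neg hne, h]
        norm_num
      rw [h1, H.thirteen g h]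
      norm_num
    · have hne : g ≠ 1 := by
        rintro rfl
        rw [orderOf_one] at h
        norm_num at h
      have h1 : b g = t := by
        simp only [b, if_neg hne, h]
        norm_num
      rw [h1, hbt g h]
    · rw [h0]
      norm_num
  have hsum : ∑ g : Cfsg.Sz F 1, bc 2 σ g * st g⁻¹ = ((∑ g : Cfsg.Sz F 1, b g * ((fx g : ℤ) - 1) : ℤ) : ℂ) := by
    rw [Finset.sum_congr rfl fun g _ => hb g]
    push_cast
    rfl
  have hst1 : (st (1 : Cfsg.Sz F 1) : ℂ) = 64 := by
    unfold st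
    rw [fx_one hF]
    norm_num
  rw [hsum, hst1, ← Nat.card_eq_fintype_card, hc] at he
  have he' : (d : ℤ) * 29120 = 64 * ∑ g : Cfsg.Sz F 1, b g * ((fx g : ℤ) - 1) := by
    exact_mod_cast he
  have s1 := sum_fx hF
  have s2 := card_free_eq hF
  have s3 : ∑ g : Cfsg.Sz F 1, (if g = 1 then (1 : ℤ) else 0) = 1 := by
    rw [Finset.sum_ite_eq' Finset.univ (1 : Cfsg.Sz F 1), if_pos (Finset.mem_univ _)]
  have hf1 : ((fx (1 : Cfsg.Sz F 1) : ℕ) : ℤ) = 65 := by rw [fx_one hF]; norm_num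
  have hb1 : ∀ g : Cfsg.Sz F 1, (g = 1 ∧ b g = 56 ∧ (fx g : ℤ) = 65) ∨ (g ≠ 1 ∧ (b g = 6 ∨ b g = 4) ∧ fx g = 0) ∨
      (g ≠ 1 ∧ b g = t ∧ fx g = 2) ∨ (g ≠ 1 ∧ fx g = 1) := by
    intro g
    rcases cases_sz8 hF g with h | ⟨h0, h⟩ | ⟨h0, h⟩ | ⟨h0, h⟩
    · exact Or.inl ⟨h, if_pos h, by rw [h, hf1]⟩
    · have hne : g ≠ 1 := by
        rintro rfl
        rw [orderOf_one] at h
        norm_num at h
      refine Or.inr (Or.inl ⟨hne, ?_, h0⟩)
      rcases h with h | h
      · left
        simp only [b, if_neg hne, if_pos h]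
      · right
        simp only [b, if_neg hne, h]
        norm_num
    · have hne : g ≠ 1 := by
        rintro rfl
        rw [orderOf_one] at h
        norm_num at h
      refine Or.inr (Or.inr (Or.inl ⟨hne, ?_, h0⟩))
      simp only [b, if_neg hne, h]
      norm_num
    · have hne : g ≠ 1 := by
        rintro rfl
        rw [orderOf_one] at h
        norm_num at h
      exact Or.inr (Or.inr (Or.inr ⟨hne, h0⟩))
  have hdn : (0 : ℤ) ≤ d := by positivity
  have hd56 : (d : ℤ) ≤ 56 := by exact_mod_cast hd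
  by_cases ht0 : t = 14
  · have h1 : ∑ g : Cfsg.Sz F 1, (14 * ((fx g : ℤ) - 1) + 2688 * (if g = 1 then (1 : ℤ) else 0) +
        8 * (if fx g = 0 then (1 : ℤ) else 0)) ≤ ∑ g : Cfsg.Sz F 1, b g * ((fx g : ℤ) - 1) := by
      refine Finset.sum_le_sum fun g _ => ?_
      rcases hb1 g with ⟨h1, h2, h3⟩ | ⟨h1, h2, h3⟩ | ⟨h1, h2, h3⟩ | ⟨h1, h3⟩
      · have h4 : fx g ≠ 0 := by omega
        rw [if_pos h1, if_neg h4, h2, h3]
        norm_num
      · rw [if_neg h1, if_pos h3, h3]
        rcases h2 with h2 | h2 <;> rw [h2] <;> norm_num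
      · have h4 : fx g ≠ 0 := by omega
        rw [if_neg h1, if_neg h4, h2, h3, ht0]
        norm_num
      · have h4 : fx g ≠ 0 := by omega
        rw [if_neg h1, if_neg h4, h3]
        norm_num
    rw [Finset.sum_add_distrib, Finset.sum_add_distrib, ← Finset.mul_sum, ← Finset.mul_sum, ← Finset.mul_sum,
      s1, s2, s3] at h1
    omega
  · have ht' : t ≤ 0 := by
      rcases ht with h | h | h
      · exact absurd h ht0
      · omega
      · omega
    have h1 : ∑ g : Cfsg.Sz F 1, b g * ((fx g : ℤ) - 1) ≤ ∑ g : Cfsg.Sz F 1, (3584 * (if g = 1 then (1 : ℤ) else 0) +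
        (-4) * (if fx g = 0 then (1 : ℤ) else 0)) := by
      refine Finset.sum_le_sum fun g _ => ?_
      rcases hb1 g with ⟨h1, h2, h3⟩ | ⟨h1, h2, h3⟩ | ⟨h1, h2, h3⟩ | ⟨h1, h3⟩
      · have h4 : fx g ≠ 0 := by omega
        rw [if_pos h1, if_neg h4, h2, h3]
        norm_num
      · rw [if_neg h1, if_pos h3, h3]
        rcases h2 with h2 | h2 <;> rw [h2] <;> norm_num
      · have h4 : fx g ≠ 0 := by omega
        rw [if_neg h1, if_neg h4, h2, h3]
        norm_num
        exact ht'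
      · have h4 : fx g ≠ 0 := by omega
        rw [if_neg h1, if_neg h4, h3]
        norm_num
    rw [Finset.sum_add_distrib, ← Finset.mul_sum, ← Finset.mul_sum, s2, s3] at h1
    omega

/-- **`Sz(8)`** is not admissible -/
theorem not_sz8_of (hpos : Pos.{u}) (hF : Fintype.card F = 8) : ¬ Adm ↥(Cfsg.Lie.Sz F 4) := by
  intro h
  have e := H680.Exc.iso (F := F) (m := 1) le_rfl (cF hF)
  exact not_sz hpos hF (h.comap e.toMonoidHom e.injective)

/-- **`Sz(8)`** is not admissible -/
theorem not_sz8 (hF : Fintype.card F = 8) : ¬ Adm ↥(Cfsg.Lie.Sz F 4) := not_sz8_of pos_holds hF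

end Cfsg.Agent.H102.E7V
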