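import Cfsg.Agent.H102.E7V.Count
import Cfsg.Agent.H102.E7V.Frob
import Cfsg.Agent.H102.E7V.Sz
import Cfsg.Agent.H326.Four.LThree
import Cfsg.Agent.S0165

/-!
# S5770: `PSL(3,4)` is not admissible (task 2446)
-/

set_option autoImplicit false

namespace Cfsg.Agent.H102.E7V

open Cfsg IsLocalRing Module Cfsg.Agent.H657 Cfsg.Agent.H943.E7V Subgroup
open Cfsg.Agent.SporadicA.FieldFour Cfsg.Agent.ONType.Psl Cfsg.Agent.ONType.PslCard
open Cfsg.Agent.CpAut.SmallP.PslFour (finite_PSL3)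
open Cfsg.Agent.H326.Four

theorem mem_cent_pow {G : Type*} [Group G] (g : G) (k : ℕ) : g ∈ centralizer ({g ^ k} : Set G) := by
  rw [mem_centralizer_singleton_iff]
  exact (Commute.pow_self g k).symm.eq

theorem cent_H : centralizer ({(QuotientGroup.mk H : PSL3)} : Set PSL3) = E := by
  have hf := finite_PSL3
  symm
  apply Subgroup.eq_of_le_of_card_ge
  · rintro _ ⟨i, j, rfl⟩
    rw [mem_centralizer_singleton_iff]
    have h1 : (QuotientGroup.mk H : PSL3) = eE 1 0 := by
      show (QuotientGroup.mk H : PSL3) = (QuotientGroup.mk (H ^ 1 * B ^ 0) : PSL3)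
      rw [pow_one, pow_zero, mul_one]
    rw [h1, eE_mul, eE_mul, add_comm i, add_comm j]
  · rw [card_E]
    exact Nat.le_of_dvd (by norm_num) (BpSpor.LFour.card_three order_H)

theorem order_of_comm {y : PSL3} (hy : orderOf y = 3) {g : PSL3} (hg : g ∈ centralizer ({y} : Set PSL3)) (h1 : g ≠ 1) :
    orderOf g = 3 := by
  obtain ⟨c, hc⟩ := isConj_iff.1 (conj_H hy)
  have h2 : c⁻¹ * g * c ∈ centralizer ({(QuotientGroup.mk H : PSL3)} : Set PSL3) := by
    rw [mem_centralizer_singleton_iff] at hg ⊢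
    have h3 : (QuotientGroup.mk H : PSL3) = c⁻¹ * y * c := by
      rw [← hc]
      group
    rw [h3]
    have h4 : c⁻¹ * g * c * (c⁻¹ * y * c) = c⁻¹ * (g * y) * c := by group
    have h5 : c⁻¹ * y * c * (c⁻¹ * g * c) = c⁻¹ * (y * g) * c := by group
    rw [h4, h5, hg]
  rw [cent_H] at h2
  have h3 : c⁻¹ * g * c ≠ 1 := by
    intro h
    apply h1
    have : g = c * (c⁻¹ * g * c) * c⁻¹ := by group
    rw [this, h]
    group
  refine Eq.trans ?_ (order_of_mem h2 h3)
  have h4 : c⁻¹ * g * c = MulAut.conj c⁻¹ g := by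
    simp
  rw [h4]
  exact (MulEquiv.orderOf_eq (MulAut.conj c⁻¹) g).symm

theorem card_cent_three {x : PSL3} (hx : orderOf x = 3) : Nat.card (centralizer ({x} : Set PSL3)) = 9 := by
  obtain ⟨c, hc⟩ := isConj_iff.1 (conj_H hx)
  have h := Blocks.SylowIn.card_centralizer_of_isConj (isConj_iff.2 ⟨c, hc⟩)
  rw [← card_E, ← cent_H]
  first
    | exact h.symm
    | exact h

theorem ord_cases (g : PSL3) : 2 ∣ orderOf g ∨ orderOf g = 1 ∨ orderOf g = 3 ∨ orderOf g = 5 ∨ orderOf g = 7 := by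
  have hf := finite_PSL3
  by_cases h2 : 2 ∣ orderOf g
  · exact Or.inl h2
  right
  have hpos := orderOf_pos g
  by_cases h1 : orderOf g = 1
  · exact Or.inl h1
  right
  have hg1 : g ≠ 1 := fun h => h1 (by rw [h, orderOf_one])
  obtain ⟨r, hr, hrd⟩ := Nat.exists_prime_and_dvd h1
  have hd : orderOf g ∣ 20160 := card_PSL3 ▸ orderOf_dvd_natCard g
  have hr' : r ∈ Nat.primeFactors 20160 := Nat.mem_primeFactors.2 ⟨hr, hrd.trans hd, by norm_num⟩
  have hpf : Nat.primeFactors 20160 = {2, 3, 5, 7} := by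
    ext p
    rw [Nat.mem_primeFactors]
    simp only [Finset.mem_insert, Finset.mem_singleton]
    constructor
    · rintro ⟨hp, hpd, -⟩
      have h3 : p ∣ 2 ^ 6 * (3 ^ 2 * (5 * 7)) := by
        norm_num
        exact hpd
      rcases (Nat.Prime.dvd_mul hp).1 h3 with h | h
      · exact Or.inl ((Nat.prime_dvd_prime_iff_eq hp Nat.prime_two).1 (hp.dvd_of_dvd_pow h))
      rcases (Nat.Prime.dvd_mul hp).1 h with h | h
      · exact Or.inr (Or.inl ((Nat.prime_dvd_prime_iff_eq hp Nat.prime_three).1 (hp.dvd_of_dvd_pow h)))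
      rcases (Nat.Prime.dvd_mul hp).1 h with h | h
      · exact Or.inr (Or.inr (Or.inl ((Nat.prime_dvd_prime_iff_eq hp (by norm_num)).1 h)))
      · exact Or.inr (Or.inr (Or.inr ((Nat.prime_dvd_prime_iff_eq hp (by norm_num)).1 h)))
    · rintro (rfl | rfl | rfl | rfl) <;> exact ⟨by norm_num, by norm_num, by norm_num⟩
  rw [hpf] at hr'
  simp only [Finset.mem_insert, Finset.mem_singleton] at hr'
  have hord : orderOf (g ^ (orderOf g / r)) = r := orderOf_pow_orderOf_div hpos.ne' hrd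
  have hmem := mem_cent_pow g (orderOf g / r)
  rcases hr' with h | h | h | h
  · rw [h] at hrd
    exact absurd hrd h2
  · rw [h] at hord hmem
    exact Or.inl (order_of_comm hord hmem hg1)
  · rw [h] at hord hmem
    have h3 := Subgroup.orderOf_dvd_natCard _ hmem
    rw [BpSpor.LFour.card_five hord] at h3
    exact Or.inr (Or.inl (((Nat.dvd_prime (by norm_num)).1 h3).resolve_left h1))
  · rw [h] at hord hmem
    have h3 := Subgroup.orderOf_dvd_natCard _ hmem
    rw [BpSpor.LFour.card_seven hord] at h3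
    exact Or.inr (Or.inr (((Nat.dvd_prime (by norm_num)).1 h3).resolve_left h1))

theorem ncard_three : {y : PSL3 | orderOf y = 3}.ncard = 2240 := by
  have hf := finite_PSL3
  have hfc : Finite (ConjAct PSL3) := hf
  have h1 : {y : PSL3 | orderOf y = 3} = MulAction.orbit (ConjAct PSL3) (QuotientGroup.mk H : PSL3) := by
    ext y
    rw [ConjAct.mem_orbit_conjAct]
    constructor
    · intro hy
      exact (conj_H hy).symm
    · intro hy
      obtain ⟨c, hc⟩ := isConj_iff.1 hy.symm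
      show orderOf y = 3
      rw [← hc]
      exact (MulEquiv.orderOf_eq (MulAut.conj c) _).trans order_H
  have h2 := MulAction.index_stabilizer (ConjAct PSL3) (QuotientGroup.mk H : PSL3)
  have h3 := (MulAction.stabilizer (ConjAct PSL3) (QuotientGroup.mk H : PSL3)).card_mul_index
  have h4 := Subgroup.nat_card_centralizer_nat_card_stabilizer (QuotientGroup.mk H : PSL3)
  rw [← h4, card_cent_three order_H, h2, ← h1] at h3
  have h5 : Nat.card (ConjAct PSL3) = 20160 := card_PSL3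
  rw [h5] at h3
  omega

theorem sum_split [Fintype PSL3] [DecidableEq PSL3] (F : PSL3 → ℂ) (hF : ∀ g, 2 ∣ orderOf g → F g = 0) :
    ∑ g, F g = F 1 + ∑ g ∈ Finset.univ.filter (fun g : PSL3 => orderOf g = 3), F g +
      ∑ g ∈ Finset.univ.filter (fun g : PSL3 => orderOf g = 5), F g +
      ∑ g ∈ Finset.univ.filter (fun g : PSL3 => orderOf g = 7), F g := by
  have h1 : F 1 = ∑ g, (if g = 1 then F g else 0) := by
    rw [Finset.sum_ite_eq' Finset.univ (1 : PSL3), if_pos (Finset.mem_univ _)]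
  rw [h1, Finset.sum_filter, Finset.sum_filter, Finset.sum_filter, ← Finset.sum_add_distrib,
    ← Finset.sum_add_distrib, ← Finset.sum_add_distrib]
  refine Finset.sum_congr rfl fun g _ => ?_
  rcases ord_cases g with h | h | h | h | h
  · rw [hF g h]
    simp
  · have h2 : g = 1 := orderOf_eq_one_iff.1 h
    rw [if_pos h2, h]
    simp
  all_goals
    have h2 : g ≠ 1 := by
      rintro rfl
      rw [orderOf_one] at h
      norm_num at h
    rw [if_neg h2, h]
    simp

theorem sum_zpowers_eq {G : Type*} [Group G] [Finite G] {χ : G → ℂ} (hχ : IsIrrCharacter G χ) (x : G)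
    [Fintype (zpowers x)] : ∃ m : ℤ, ∑ y : zpowers x, χ (y : G)⁻¹ = (orderOf x : ℂ) * m := by
  obtain ⟨n, hn⟩ := M22.BDataOfBlocks.exists_sum_eq (Characters.Core.isIrr_isCharacter hχ) (zpowers x)
  refine ⟨n, ?_⟩
  rw [Nat.card_zpowers] at hn
  rw [Int.cast_natCast, ← hn]
  exact Fintype.sum_equiv (Equiv.inv _) _ _ fun y => rfl

theorem vals {t3 t7 d m5 m7 : ℤ} (h3 : t3 = 2 ∨ t3 = 20 ∨ t3 = -7 ∨ t3 = -25) (h7 : t7 = 14 ∨ t7 = 0 ∨ t7 = -7)
    (hd : 0 ≤ d) (hd' : d ≤ 56) (h1 : 64 + 2240 + 2016 * (5 * m5 - 64) + 960 * (7 * m7 - 64) = 0)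
    (h2 : d * 20160 = 64 * (56 * 64 + t3 * 2240 + 6 * (2016 * (5 * m5 - 64)) + t7 * (960 * (7 * m7 - 64)))) :
    t3 = 20 ∧ t7 = 0 := by
  rcases h3 with rfl | rfl | rfl | rfl <;> rcases h7 with rfl | rfl | rfl <;>
    first
      | exact ⟨rfl, rfl⟩
      | (exfalso; omega)

/-- **`PSL(3,4)`** is not admissible -/
theorem not_psl (hpos : Pos.{0}) : ¬ Adm PSL3 := by
  classical
  rintro ⟨M, V, hM, hV, σ, H'⟩
  have hfin := finite_PSL3
  have := Fintype.ofFinite PSL3
  have hF5 : Fact (Nat.Prime 5) := ⟨by norm_num⟩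
  have hF7 : Fact (Nat.Prime 7) := ⟨by norm_num⟩
  obtain ⟨χ, hχ⟩ := exists_theta
  -- the zeros
  have hz : ∀ g, 2 ∣ orderOf g → (χ : PSL3 → ℂ) g = 0 := by
    obtain ⟨n, ρ, hρ, hρχ⟩ := χ.2
    intro g hg
    have h1 : (n : ℂ) = 64 := by
      rw [← hχ, ← hρχ, Representation.char_one]
      simp
    have h2 : n = 64 := by exact_mod_cast h1
    have h3 := S0165.result ρ 2 6 Nat.prime_two (by rw [card_PSL3]; norm_num) (by rw [card_PSL3]; norm_num)
      (by rw [finrank_fin_fun, h2]; norm_num) g hg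
    rw [← hρχ]
    exact h3
  obtain ⟨d, hd, he⟩ := hpos hM hV σ χ.2 (fun g hg => hz g (not_not.1 hg))
  set f : PSL3 → ℂ := fun g => (χ : PSL3 → ℂ) g⁻¹ with hf
  have hfz : ∀ g, 2 ∣ orderOf g → f g = 0 := fun g hg => hz g⁻¹ (by rwa [orderOf_inv])
  have hfc : ∀ c g, f (c * g * c⁻¹) = f g := by
    intro c g
    show (χ : PSL3 → ℂ) (c * g * c⁻¹)⁻¹ = (χ : PSL3 → ℂ) g⁻¹
    have h1 : (c * g * c⁻¹)⁻¹ = c * g⁻¹ * c⁻¹ := by group
    rw [h1]
    exact Characters.Core.isIrr_isClassFunction χ.2 g⁻¹ c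
  have hf1 : f 1 = 64 := by
    show (χ : PSL3 → ℂ) (1 : PSL3)⁻¹ = 64
    rw [inv_one, hχ]
  have hf3 : ∀ g, orderOf g = 3 → f g = 1 := fun g hg => theta_three χ hχ (by rwa [orderOf_inv])
  -- orthogonality with the trivial character
  have hsum0 : ∑ g, f g = 0 := by
    have h1 := Characters.Core.classInner_irr_ne χ.2 Characters.Core.isIrr_one (by
      intro h
      have := congrFun h 1
      rw [hχ] at this
      norm_num at this)
    rw [Characters.Core.classInner_def] at h1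
    have h2 : (Nat.card PSL3 : ℂ)⁻¹ ≠ 0 := inv_ne_zero (by rw [card_PSL3]; norm_num)
    have h3 := (mul_eq_zero.1 h1).resolve_left h2
    rw [← h3]
    exact Fintype.sum_equiv (Equiv.inv _) _ _ fun g => by simp [f]
  -- elements of order 5 and 7
  obtain ⟨x5, hx5⟩ := exists_prime_orderOf_dvd_card' (G := PSL3) 5 (by rw [card_PSL3]; norm_num)
  obtain ⟨x7, hx7⟩ := exists_prime_orderOf_dvd_card' (G := PSL3) 7 (by rw [card_PSL3]; norm_num)
  have := Fintype.ofFinite (zpowers x5)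
  have := Fintype.ofFinite (zpowers x7)
  obtain ⟨m5, hm5⟩ := sum_zpowers_eq χ.2 x5
  obtain ⟨m7, hm7⟩ := sum_zpowers_eq χ.2 x7
  rw [hx5] at hm5
  rw [hx7] at hm7
  have hs5 := sum_order (by norm_num : Nat.Prime 5) (by rw [card_PSL3]; norm_num) hx5 f hfc
  have hs7 := sum_order (by norm_num : Nat.Prime 7) (by rw [card_PSL3]; norm_num) hx7 f hfc
  have n5 : Nat.card (Sylow 5 PSL3) = 2016 := by
    obtain ⟨e, he, hm, -, hc⟩ := count (by norm_num : Nat.Prime 5) (by rw [card_PSL3]; norm_num) hx5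
    rw [BpSpor.LFour.card_five hx5, card_PSL3] at hc
    have h4 : e ≤ 4 := Nat.le_of_dvd (by norm_num) he
    interval_cases e <;> omega
  obtain ⟨n7, hN⟩ : Nat.card (Sylow 7 PSL3) = 960 ∧ Nat.card (normalizer (zpowers x7 : Set PSL3)) = 21 := by
    obtain ⟨e, he, hm, hN, hc⟩ := count (by norm_num : Nat.Prime 7) (by rw [card_PSL3]; norm_num) hx7
    rw [BpSpor.LFour.card_seven hx7, card_PSL3] at hc
    rw [BpSpor.LFour.card_seven hx7] at hN
    have h4 : e ≤ 6 := Nat.le_of_dvd (by norm_num) he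
    interval_cases e <;> omega
  rw [n5, hf1, hm5] at hs5
  rw [n7, hf1, hm7] at hs7
  have hc3 : (Finset.univ.filter (fun g : PSL3 => orderOf g = 3)).card = 2240 := by
    rw [← ncard_three, ← Set.ncard_coe_finset]
    congr 1
    ext g
    simp
  -- the sum of f
  have hA := sum_split f hfz
  have hA3 : ∑ g ∈ Finset.univ.filter (fun g : PSL3 => orderOf g = 3), f g = 2240 := by
    rw [Finset.sum_congr rfl fun g hg => hf3 g (Finset.mem_filter.1 hg).2, Finset.sum_const, hc3]
    norm_num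
  rw [hsum0, hf1, hA3, hs5, hs7] at hA
  -- the sum of bc * f
  have hB := sum_split (fun g => bc 2 σ g * f g) (fun g hg => by
    show bc 2 σ g * f g = 0
    rw [hfz g hg, mul_zero])
  obtain ⟨t3, ht3, ht3'⟩ : ∃ t : ℤ, (t = 2 ∨ t = 20 ∨ t = -7 ∨ t = -25) ∧ ∀ g, orderOf g = 3 → bc 2 σ g = t := by
    have h1 : ∃ t : ℤ, (t = 2 ∨ t = 20 ∨ t = -7 ∨ t = -25) ∧ bc 2 σ (QuotientGroup.mk H : PSL3) = t := by
      rcases H'.three _ order_H with h | h | h | h
      · exact ⟨2, by simp, by rw [h]; norm_num⟩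
      · exact ⟨20, by simp, by rw [h]; norm_num⟩
      · exact ⟨-7, by simp, by rw [h]; norm_num⟩
      · exact ⟨-25, by simp, by rw [h]; norm_num⟩
    obtain ⟨t, ht, ht'⟩ := h1
    refine ⟨t, ht, fun g hg => ?_⟩
    obtain ⟨c, hc⟩ := isConj_iff.1 (conj_H hg)
    rw [← hc, bc_conj, ht']
  obtain ⟨t7, ht7, ht7'⟩ := seven_const (by rw [card_PSL3]; norm_num) H'
  have hB3 : ∑ g ∈ Finset.univ.filter (fun g : PSL3 => orderOf g = 3), bc 2 σ g * f g = t3 * 2240 := by
    rw [Finset.sum_congr rfl (g := fun _ => (t3 : ℂ)) fun g hg => by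
      rw [ht3' g (Finset.mem_filter.1 hg).2, hf3 g (Finset.mem_filter.1 hg).2, mul_one], Finset.sum_const, hc3]
    rw [nsmul_eq_mul, mul_comm]
    norm_num
  have hB5 : ∑ g ∈ Finset.univ.filter (fun g : PSL3 => orderOf g = 5), bc 2 σ g * f g =
      6 * ∑ g ∈ Finset.univ.filter (fun g : PSL3 => orderOf g = 5), f g := by
    rw [Finset.mul_sum]
    exact Finset.sum_congr rfl fun g hg => by rw [H'.five g (Finset.mem_filter.1 hg).2]
  have hB7 : ∑ g ∈ Finset.univ.filter (fun g : PSL3 => orderOf g = 7), bc 2 σ g * f g =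
      t7 * ∑ g ∈ Finset.univ.filter (fun g : PSL3 => orderOf g = 7), f g := by
    rw [Finset.mul_sum]
    exact Finset.sum_congr rfl fun g hg => by rw [ht7' g (Finset.mem_filter.1 hg).2]
  have hB1 : bc 2 σ 1 * f 1 = 56 * 64 := by rw [H'.one, hf1]
  rw [hB3, hB5, hB7, hB1, hs5, hs7] at hB
  change (d : ℂ) * Fintype.card PSL3 = (χ : PSL3 → ℂ) 1 * ∑ g, bc 2 σ g * f g at he
  rw [hB, hχ, ← Nat.card_eq_fintype_card, card_PSL3] at he
  -- over the integers
  have hA' : (64 : ℤ) + 2240 + 2016 * (5 * m5 - 64) + 960 * (7 * m7 - 64) = 0 := by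
    have h1 : (((64 : ℤ) + 2240 + 2016 * (5 * m5 - 64) + 960 * (7 * m7 - 64) : ℤ) : ℂ) = ((0 : ℤ) : ℂ) := by
      push_cast
      linear_combination -hA
    exact_mod_cast h1
  have he' : (d : ℤ) * 20160 = 64 * (56 * 64 + t3 * 2240 + 6 * (2016 * (5 * m5 - 64)) + t7 * (960 * (7 * m7 - 64))) := by
    have h1 : (((d : ℤ) * 20160 : ℤ) : ℂ) =
        ((64 * (56 * 64 + t3 * 2240 + 6 * (2016 * (5 * m5 - 64)) + t7 * (960 * (7 * m7 - 64))) : ℤ) : ℂ) := by
      push_cast
      linear_combination he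
    exact_mod_cast h1
  obtain ⟨r3, r7⟩ := vals ht3 ht7 (by positivity) (by exact_mod_cast hd) hA' he'
  -- the Frobenius group of order 21
  set N : Subgroup PSL3 := normalizer (zpowers x7 : Set PSL3) with hNdef
  have hle : zpowers x7 ≤ N := le_normalizer
  have hP : Nat.card ((zpowers x7).subgroupOf N) = 7 := by
    rw [Nat.card_congr (Subgroup.subgroupOfEquivOfLe hle).toEquiv, Nat.card_zpowers, hx7]
  have hPn : ((zpowers x7).subgroupOf N).Normal := normal_in_normalizer
  have hPi : ((zpowers x7).subgroupOf N).index = 3 := by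
    have h1 := ((zpowers x7).subgroupOf N).card_mul_index
    rw [hP, hN] at h1
    omega
  refine not_frob hpos hM hV hP hPi ?_ (σ.comp N.subtype) ?_ ?_ ?_
  · intro g hg
    have h1 : orderOf (g : PSL3) = 21 := (orderOf_injective N.subtype N.subtype_injective g).trans hg
    rcases ord_cases (g : PSL3) with h | h | h | h | h <;> rw [h1] at h <;> norm_num at h
  · exact H'.one
  · intro g hg
    have h1 : orderOf (g : PSL3) = 3 := (orderOf_injective N.subtype N.subtype_injective g).trans hg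
    have h2 := ht3' g h1
    rw [r3] at h2
    have h3 : bc 2 σ (g : PSL3) = 20 := by rw [h2]; norm_num
    exact h3
  · intro g hg
    have h1 : orderOf (g : PSL3) = 7 := (orderOf_injective N.subtype N.subtype_injective g).trans hg
    have h2 := ht7' g h1
    rw [r7] at h2
    have h3 : bc 2 σ (g : PSL3) = 0 := by rw [h2]; norm_num
    exact h3

/-- **`PSL(3,4)`** is not admissible, any field of order four -/
theorem not_psl34_of (hpos : Pos.{0}) {F : Type*} [Field F] [Fintype F] (hF : Fintype.card F = 4) :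
    ¬ Adm (Matrix.ProjectiveSpecialLinearGroup (Fin 3) F) := by
  intro h
  obtain ⟨e⟩ := nonempty_psl_equiv (n := Fin 3) F hF
  exact not_psl hpos (h.comap e.toMonoidHom e.injective)

/-- **`PSL(3,4)`** is not admissible -/
theorem not_psl34 {F : Type*} [Field F] [Fintype F] (hF : Fintype.card F = 4) :
    ¬ Adm (Matrix.ProjectiveSpecialLinearGroup (Fin 3) F) := not_psl34_of pos_holds hF

end Cfsg.Agent.H102.E7V
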